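import Groth.Prelude.Def_MoreMor
import Groth.Agent.S1381
import Groth.Agent.FlatMisc.Fibrewise
import Groth.Agent.MorLib.Thickening
import Groth.Agent.ConsPropLib.Fibre

/-! Properties of a morphism that can be checked after restricting to a thickening. -/

set_option autoImplicit false
universe u
open AlgebraicGeometry CategoryTheory CategoryTheory.Limits
set_option backward.isDefEq.respectTransparency.types false

namespace Groth.Agent.ThickDeform

variable {X X' Y Y' S S' : Scheme.{u}} {iX : X ⟶ X'} {iY : Y ⟶ Y'} {iS : S ⟶ S'}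
  {f : X ⟶ Y} {f' : X' ⟶ Y'}

theorem isThickening_baseChange (hY : MoreMor.IsThickening iY) (hc : IsPullback iX f f' iY) :
    MoreMor.IsThickening iX :=
  ⟨MorphismProperty.of_isPullback (P := (@IsClosedImmersion : MorphismProperty Scheme.{u})) hc.flip hY.1,
    MorphismProperty.of_isPullback (P := (@Surjective : MorphismProperty Scheme.{u})) hc.flip hY.2⟩

theorem formallyUnramified_lift [LocallyOfFiniteType f'] [FormallyUnramified f]
    (hY : MoreMor.IsThickening iY) (hc : IsPullback iX f f' iY) : FormallyUnramified f' := by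
  haveI := hY.1
  haveI := hY.2
  refine GrpSchLib.formallyUnramified_of_fibres f' fun y' => ?_
  obtain ⟨y, rfl⟩ := iY.surjective y'
  obtain ⟨e, he, -⟩ := ConsPropLib.exists_fibre_pullback hc y
  haveI := S1381.isIso_residueFieldMap iY y
  haveI : IsIso e := he.isIso_fst_of_isIso
  have h : FormallyUnramified (f.fiberToSpecResidueField y) :=
    MorphismProperty.of_isPullback (P := (@FormallyUnramified : MorphismProperty Scheme.{u}))
      (IsPullback.of_hasPullback f (Y.fromSpecResidueField y)) inferInstance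
  rw [show f'.fiberToSpecResidueField (iY y) =
    inv e ≫ f.fiberToSpecResidueField y ≫ Spec.map (iY.residueFieldMap y) from (IsIso.eq_inv_comp e).2 he.w,
    MorphismProperty.cancel_left_of_respectsIso (P := (@FormallyUnramified : MorphismProperty Scheme.{u})),
    MorphismProperty.cancel_right_of_respectsIso (P := (@FormallyUnramified : MorphismProperty Scheme.{u}))]
  exact h

theorem mono_lift [LocallyOfFiniteType f'] [Mono f]
    (hY : MoreMor.IsThickening iY) (hc : IsPullback iX f f' iY) : Mono f' := by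
  haveI : FormallyUnramified f' := formallyUnramified_lift hY hc
  haveI : UniversallyInjective f' :=
    (MorLib.thickening_universallyInjective_iff (isThickening_baseChange hY hc) hY hc.w).1 inferInstance
  haveI : Surjective (pullback.diagonal f') := (UniversallyInjective.iff_diagonal f').1 inferInstance
  haveI : IsIso (pullback.diagonal f') :=
    (isIso_iff_isOpenImmersion_and_surjective _).mpr ⟨inferInstance, inferInstance⟩
  exact (pullback.isIso_diagonal_iff f').mp inferInstance

theorem isClosedImmersion_lift [LocallyOfFiniteType f'] [IsClosedImmersion f]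
    (hY : MoreMor.IsThickening iY) (hc : IsPullback iX f f' iY) : IsClosedImmersion f' := by
  have hX := isThickening_baseChange hY hc
  haveI : Mono f' := mono_lift hY hc
  haveI : QuasiCompact f' := (MorLib.thickening_quasiCompact_iff hX hY hc.w).1 inferInstance
  haveI : UniversallyClosed f' := (MorLib.thickening_universallyClosed_iff hX hY hc.w).1 inferInstance
  haveI : IsProper f' := {}
  exact (IsClosedImmersion.iff_isProper_and_mono f').2 ⟨inferInstance, inferInstance⟩

theorem isImmersion_lift [LocallyOfFiniteType f'] [IsImmersion f]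
    (hY : MoreMor.IsThickening iY) (hc : IsPullback iX f f' iY) : IsImmersion f' := by
  haveI := hY.1
  haveI := hY.2
  have hX := isThickening_baseChange hY hc
  haveI := hX.2
  have hh : IsHomeomorph iY :=
    isHomeomorph_iff_isEmbedding_surjective.2 ⟨iY.isClosedEmbedding.isEmbedding, iY.surjective⟩
  -- the open set of the target in which the image is closed
  let W : Y'.Opens := ⟨iY '' f.coborderRange, hh.isOpenMap _ f.coborderRange.2⟩
  have hpre : iY ⁻¹ᵁ W = f.coborderRange := TopologicalSpace.Opens.ext (hh.injective.preimage_image _)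
  have hsub : Set.range f' ⊆ W := by
    rintro _ ⟨x', rfl⟩
    obtain ⟨x, rfl⟩ := iX.surjective x'
    refine ⟨f x, subset_coborder ⟨x, rfl⟩, ?_⟩
    rw [← Scheme.Hom.comp_apply, ← hc.w, Scheme.Hom.comp_apply]
  let k : X' ⟶ W := IsOpenImmersion.lift W.ι f' (by rw [Scheme.Opens.range_ι]; exact hsub)
  have hk : k ≫ W.ι = f' := IsOpenImmersion.lift_fac _ _ _
  haveI : LocallyOfFiniteType (k ≫ W.ι) := hk.symm ▸ ‹LocallyOfFiniteType f'›
  haveI : LocallyOfFiniteType k := locallyOfFiniteType_of_comp k W.ι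
  let iW : (iY ⁻¹ᵁ W).toScheme ⟶ W.toScheme := iY ∣_ W
  have hsubf : Set.range f ⊆ iY ⁻¹ᵁ W := by rw [hpre]; exact subset_coborder
  let k₀ : X ⟶ (iY ⁻¹ᵁ W).toScheme :=
    IsOpenImmersion.lift (iY ⁻¹ᵁ W).ι f (by rw [Scheme.Opens.range_ι]; exact hsubf)
  have hk₀ : k₀ ≫ (iY ⁻¹ᵁ W).ι = f := IsOpenImmersion.lift_fac _ _ _
  have hsq : IsPullback iX k₀ k iW := by
    have h1 := isPullback_morphismRestrict iY W
    refine IsPullback.of_bot (by rw [hk₀, hk]; exact hc) ?_ h1
    rw [← cancel_mono W.ι, Category.assoc, Category.assoc, hk, morphismRestrict_ι,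
      ← Category.assoc, hk₀, hc.w]
  haveI : IsClosedImmersion k₀ := by
    haveI : IsImmersion (k₀ ≫ (iY ⁻¹ᵁ W).ι) := hk₀.symm ▸ ‹IsImmersion f›
    haveI : IsImmersion k₀ := IsImmersion.of_comp k₀ (iY ⁻¹ᵁ W).ι
    refine IsClosedImmersion.of_isPreimmersion k₀ ?_
    have : Set.range k₀ = (iY ⁻¹ᵁ W).ι ⁻¹' Set.range f := by
      ext z
      exact ⟨fun ⟨x, hx⟩ => ⟨x, by rw [← hx, ← Scheme.Hom.comp_apply, hk₀]⟩, fun ⟨x, hx⟩ => ⟨x,
        (iY ⁻¹ᵁ W).ι.injective (by rw [← Scheme.Hom.comp_apply, hk₀, hx])⟩⟩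
    rw [this]
    have hcl : IsClosed ((Subtype.val : f.coborderRange → Y) ⁻¹' Set.range f) :=
      isClosed_preimage_val_coborder
    obtain ⟨C, hC, hCeq⟩ := isClosed_induced_iff.1 hcl
    rw [show (iY ⁻¹ᵁ W).ι ⁻¹' Set.range f = (iY ⁻¹ᵁ W).ι ⁻¹' C from ?_]
    · exact hC.preimage (iY ⁻¹ᵁ W).ι.continuous
    · ext z
      have hz : (iY ⁻¹ᵁ W).ι z ∈ f.coborderRange := hpre ▸ z.2
      exact (Set.ext_iff.1 hCeq ⟨_, hz⟩).symm
  have hW : MoreMor.IsThickening iW :=
    ⟨IsZariskiLocalAtTarget.restrict hY.1 W, IsZariskiLocalAtTarget.restrict hY.2 W⟩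
  haveI : IsClosedImmersion k := isClosedImmersion_lift hW hsq
  rw [← hk]
  infer_instance

variable {g : Y ⟶ S} {g' : Y' ⟶ S'}

/-- The fibre maps over the points of the thickened base. -/
theorem fibres_lift (P : MorphismProperty Scheme.{u}) [P.IsStableUnderBaseChange] [P.RespectsIso]
    (hS : MoreMor.IsThickening iS) (hcX : IsPullback iX (f ≫ g) (f' ≫ g') iS) (hcY : IsPullback iY g g' iS)
    (w : iX ≫ f' = f ≫ iY) (hf : P f) (s' : S') : P (pullback.snd f' (g'.fiberι s')) := by
  haveI := hS.1
  haveI := hS.2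
  obtain ⟨s, rfl⟩ := iS.surjective s'
  obtain ⟨eX, heX, hιX⟩ := ConsPropLib.exists_fibre_pullback hcX s
  obtain ⟨eY, heY, hιY⟩ := ConsPropLib.exists_fibre_pullback hcY s
  haveI := S1381.isIso_residueFieldMap iS s
  haveI : IsIso eX := heX.isIso_fst_of_isIso
  haveI : IsIso eY := heY.isIso_fst_of_isIso
  have hcomm : eX ≫ MoreMor.fiberMap f' g' (iS s) = MoreMor.fiberMap f g s ≫ eY := by
    apply pullback.hom_ext
    · change _ ≫ g'.fiberι _ = _ ≫ g'.fiberι _
      rw [Category.assoc, Category.assoc, ConsPropLib.fiberMap_comp_ι, reassoc_of% hιX, hιY,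
        reassoc_of% ConsPropLib.fiberMap_comp_ι f g s, w]
    · change _ ≫ g'.fiberToSpecResidueField _ = _ ≫ g'.fiberToSpecResidueField _
      rw [Category.assoc, Category.assoc, ConsPropLib.fiberMap_comp_toSpec, heX.w, heY.w,
        reassoc_of% ConsPropLib.fiberMap_comp_toSpec f g s]
  have h : P (MoreMor.fiberMap f' g' (iS s)) := by
    rw [(IsIso.eq_inv_comp eX).2 hcomm, P.cancel_left_of_respectsIso, P.cancel_right_of_respectsIso]
    exact P.of_isPullback (ConsPropLib.isPullback_fiberMap f g s) hf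
  rw [← (ConsPropLib.isPullback_fiberMap f' g' (iS s)).isoPullback_inv_snd, P.cancel_left_of_respectsIso]
  exact h

end Groth.Agent.ThickDeform
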